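import Cfsg.Agent.Lib.Helper56.ONM11.Data

set_option autoImplicit false
set_option linter.unusedVariables false
set_option Elab.async false

namespace Cfsg.Agent.Lib.Helper56.ONM11

open Cfsg.Spor.ON (Gen)
open Cfsg.Agent.Lib.Helper28 Cfsg.Agent.Lib.Helper28.TC Cfsg.Agent.Lib.Helper28.TC2 Cfsg.Agent.Lib.Helper28.ON122760

noncomputable section

theorem relP_blk16 : allRange (guard nn relP) 8 (16 * 2 ^ 8) = true := by decide +kernel
theorem relP_blk17 : allRange (guard nn relP) 8 (17 * 2 ^ 8) = true := by decide +kernel
theorem relP_blk18 : allRange (guard nn relP) 8 (18 * 2 ^ 8) = true := by decide +kernel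
theorem relP_blk19 : allRange (guard nn relP) 8 (19 * 2 ^ 8) = true := by decide +kernel
theorem relP_blk20 : allRange (guard nn relP) 8 (20 * 2 ^ 8) = true := by decide +kernel
theorem relP_blk21 : allRange (guard nn relP) 8 (21 * 2 ^ 8) = true := by decide +kernel
theorem relP_blk22 : allRange (guard nn relP) 8 (22 * 2 ^ 8) = true := by decide +kernel
theorem relP_blk23 : allRange (guard nn relP) 8 (23 * 2 ^ 8) = true := by decide +kernel
theorem relP_blk24 : allRange (guard nn relP) 8 (24 * 2 ^ 8) = true := by decide +kernel
theorem relP_blk25 : allRange (guard nn relP) 8 (25 * 2 ^ 8) = true := by decide +kernel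
theorem relP_blk26 : allRange (guard nn relP) 8 (26 * 2 ^ 8) = true := by decide +kernel
theorem relP_blk27 : allRange (guard nn relP) 8 (27 * 2 ^ 8) = true := by decide +kernel
theorem relP_blk28 : allRange (guard nn relP) 8 (28 * 2 ^ 8) = true := by decide +kernel
theorem relP_blk29 : allRange (guard nn relP) 8 (29 * 2 ^ 8) = true := by decide +kernel
theorem relP_blk30 : allRange (guard nn relP) 8 (30 * 2 ^ 8) = true := by decide +kernel
theorem relP_blk31 : allRange (guard nn relP) 8 (31 * 2 ^ 8) = true := by decide +kernel
theorem relP_f1 : ∀ k, 16 ≤ k → k < 32 → allRange (guard nn relP) 8 (k * 2 ^ 8) = true := by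
  intro k h1 h2
  interval_cases k
  · exact relP_blk16
  · exact relP_blk17
  · exact relP_blk18
  · exact relP_blk19
  · exact relP_blk20
  · exact relP_blk21
  · exact relP_blk22
  · exact relP_blk23
  · exact relP_blk24
  · exact relP_blk25
  · exact relP_blk26
  · exact relP_blk27
  · exact relP_blk28
  · exact relP_blk29
  · exact relP_blk30
  · exact relP_blk31

end

end Cfsg.Agent.Lib.Helper56.ONM11
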