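import Cfsg.Agent.Lib.Helper56.ONM11.Data

set_option autoImplicit false
set_option linter.unusedVariables false
set_option Elab.async false

namespace Cfsg.Agent.Lib.Helper56.ONM11

open Cfsg.Spor.ON (Gen)
open Cfsg.Agent.Lib.Helper28 Cfsg.Agent.Lib.Helper28.TC Cfsg.Agent.Lib.Helper28.TC2 Cfsg.Agent.Lib.Helper28.ON122760

noncomputable section

theorem relP_blk160 : allRange (guard nn relP) 8 (160 * 2 ^ 8) = true := by decide +kernel
theorem relP_blk161 : allRange (guard nn relP) 8 (161 * 2 ^ 8) = true := by decide +kernel
theorem relP_blk162 : allRange (guard nn relP) 8 (162 * 2 ^ 8) = true := by decide +kernel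
theorem relP_blk163 : allRange (guard nn relP) 8 (163 * 2 ^ 8) = true := by decide +kernel
theorem relP_blk164 : allRange (guard nn relP) 8 (164 * 2 ^ 8) = true := by decide +kernel
theorem relP_blk165 : allRange (guard nn relP) 8 (165 * 2 ^ 8) = true := by decide +kernel
theorem relP_blk166 : allRange (guard nn relP) 8 (166 * 2 ^ 8) = true := by decide +kernel
theorem relP_blk167 : allRange (guard nn relP) 8 (167 * 2 ^ 8) = true := by decide +kernel
theorem relP_blk168 : allRange (guard nn relP) 8 (168 * 2 ^ 8) = true := by decide +kernel
theorem relP_blk169 : allRange (guard nn relP) 8 (169 * 2 ^ 8) = true := by decide +kernel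
theorem relP_blk170 : allRange (guard nn relP) 8 (170 * 2 ^ 8) = true := by decide +kernel
theorem relP_blk171 : allRange (guard nn relP) 8 (171 * 2 ^ 8) = true := by decide +kernel
theorem relP_blk172 : allRange (guard nn relP) 8 (172 * 2 ^ 8) = true := by decide +kernel
theorem relP_blk173 : allRange (guard nn relP) 8 (173 * 2 ^ 8) = true := by decide +kernel
theorem relP_blk174 : allRange (guard nn relP) 8 (174 * 2 ^ 8) = true := by decide +kernel
theorem relP_blk175 : allRange (guard nn relP) 8 (175 * 2 ^ 8) = true := by decide +kernel
theorem relP_f10 : ∀ k, 160 ≤ k → k < 176 → allRange (guard nn relP) 8 (k * 2 ^ 8) = true := by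
  intro k h1 h2
  interval_cases k
  · exact relP_blk160
  · exact relP_blk161
  · exact relP_blk162
  · exact relP_blk163
  · exact relP_blk164
  · exact relP_blk165
  · exact relP_blk166
  · exact relP_blk167
  · exact relP_blk168
  · exact relP_blk169
  · exact relP_blk170
  · exact relP_blk171
  · exact relP_blk172
  · exact relP_blk173
  · exact relP_blk174
  · exact relP_blk175

end

end Cfsg.Agent.Lib.Helper56.ONM11
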