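import Cfsg.Agent.Lib.Helper56.ONM11.Data

set_option autoImplicit false
set_option linter.unusedVariables false
set_option Elab.async false

namespace Cfsg.Agent.Lib.Helper56.ONM11

open Cfsg.Spor.ON (Gen)
open Cfsg.Agent.Lib.Helper28 Cfsg.Agent.Lib.Helper28.TC Cfsg.Agent.Lib.Helper28.TC2 Cfsg.Agent.Lib.Helper28.ON122760

noncomputable section

theorem relP_blk224 : allRange (guard nn relP) 8 (224 * 2 ^ 8) = true := by decide +kernel
theorem relP_blk225 : allRange (guard nn relP) 8 (225 * 2 ^ 8) = true := by decide +kernel
theorem relP_blk226 : allRange (guard nn relP) 8 (226 * 2 ^ 8) = true := by decide +kernel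
theorem relP_blk227 : allRange (guard nn relP) 8 (227 * 2 ^ 8) = true := by decide +kernel
theorem relP_blk228 : allRange (guard nn relP) 8 (228 * 2 ^ 8) = true := by decide +kernel
theorem relP_blk229 : allRange (guard nn relP) 8 (229 * 2 ^ 8) = true := by decide +kernel
theorem relP_blk230 : allRange (guard nn relP) 8 (230 * 2 ^ 8) = true := by decide +kernel
theorem relP_blk231 : allRange (guard nn relP) 8 (231 * 2 ^ 8) = true := by decide +kernel
theorem relP_blk232 : allRange (guard nn relP) 8 (232 * 2 ^ 8) = true := by decide +kernel
theorem relP_blk233 : allRange (guard nn relP) 8 (233 * 2 ^ 8) = true := by decide +kernel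
theorem relP_blk234 : allRange (guard nn relP) 8 (234 * 2 ^ 8) = true := by decide +kernel
theorem relP_blk235 : allRange (guard nn relP) 8 (235 * 2 ^ 8) = true := by decide +kernel
theorem relP_blk236 : allRange (guard nn relP) 8 (236 * 2 ^ 8) = true := by decide +kernel
theorem relP_blk237 : allRange (guard nn relP) 8 (237 * 2 ^ 8) = true := by decide +kernel
theorem relP_blk238 : allRange (guard nn relP) 8 (238 * 2 ^ 8) = true := by decide +kernel
theorem relP_blk239 : allRange (guard nn relP) 8 (239 * 2 ^ 8) = true := by decide +kernel
theorem relP_f14 : ∀ k, 224 ≤ k → k < 240 → allRange (guard nn relP) 8 (k * 2 ^ 8) = true := by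
  intro k h1 h2
  interval_cases k
  · exact relP_blk224
  · exact relP_blk225
  · exact relP_blk226
  · exact relP_blk227
  · exact relP_blk228
  · exact relP_blk229
  · exact relP_blk230
  · exact relP_blk231
  · exact relP_blk232
  · exact relP_blk233
  · exact relP_blk234
  · exact relP_blk235
  · exact relP_blk236
  · exact relP_blk237
  · exact relP_blk238
  · exact relP_blk239

end

end Cfsg.Agent.Lib.Helper56.ONM11
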