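import Cfsg.Agent.Lib.Helper56.ONM11.Data

set_option autoImplicit false
set_option linter.unusedVariables false
set_option Elab.async false

namespace Cfsg.Agent.Lib.Helper56.ONM11

open Cfsg.Spor.ON (Gen)
open Cfsg.Agent.Lib.Helper28 Cfsg.Agent.Lib.Helper28.TC Cfsg.Agent.Lib.Helper28.TC2 Cfsg.Agent.Lib.Helper28.ON122760

noncomputable section

theorem relP_blk240 : allRange (guard nn relP) 8 (240 * 2 ^ 8) = true := by decide +kernel
theorem relP_blk241 : allRange (guard nn relP) 8 (241 * 2 ^ 8) = true := by decide +kernel
theorem relP_blk242 : allRange (guard nn relP) 8 (242 * 2 ^ 8) = true := by decide +kernel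
theorem relP_blk243 : allRange (guard nn relP) 8 (243 * 2 ^ 8) = true := by decide +kernel
theorem relP_blk244 : allRange (guard nn relP) 8 (244 * 2 ^ 8) = true := by decide +kernel
theorem relP_blk245 : allRange (guard nn relP) 8 (245 * 2 ^ 8) = true := by decide +kernel
theorem relP_blk246 : allRange (guard nn relP) 8 (246 * 2 ^ 8) = true := by decide +kernel
theorem relP_blk247 : allRange (guard nn relP) 8 (247 * 2 ^ 8) = true := by decide +kernel
theorem relP_blk248 : allRange (guard nn relP) 8 (248 * 2 ^ 8) = true := by decide +kernel
theorem relP_blk249 : allRange (guard nn relP) 8 (249 * 2 ^ 8) = true := by decide +kernel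
theorem relP_blk250 : allRange (guard nn relP) 8 (250 * 2 ^ 8) = true := by decide +kernel
theorem relP_blk251 : allRange (guard nn relP) 8 (251 * 2 ^ 8) = true := by decide +kernel
theorem relP_blk252 : allRange (guard nn relP) 8 (252 * 2 ^ 8) = true := by decide +kernel
theorem relP_blk253 : allRange (guard nn relP) 8 (253 * 2 ^ 8) = true := by decide +kernel
theorem relP_blk254 : allRange (guard nn relP) 8 (254 * 2 ^ 8) = true := by decide +kernel
theorem relP_blk255 : allRange (guard nn relP) 8 (255 * 2 ^ 8) = true := by decide +kernel
theorem relP_f15 : ∀ k, 240 ≤ k → k < 256 → allRange (guard nn relP) 8 (k * 2 ^ 8) = true := by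
  intro k h1 h2
  interval_cases k
  · exact relP_blk240
  · exact relP_blk241
  · exact relP_blk242
  · exact relP_blk243
  · exact relP_blk244
  · exact relP_blk245
  · exact relP_blk246
  · exact relP_blk247
  · exact relP_blk248
  · exact relP_blk249
  · exact relP_blk250
  · exact relP_blk251
  · exact relP_blk252
  · exact relP_blk253
  · exact relP_blk254
  · exact relP_blk255

end

end Cfsg.Agent.Lib.Helper56.ONM11
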