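import Cfsg.Agent.Lib.Helper56.ONM11.Data

set_option autoImplicit false
set_option linter.unusedVariables false
set_option Elab.async false

namespace Cfsg.Agent.Lib.Helper56.ONM11

open Cfsg.Spor.ON (Gen)
open Cfsg.Agent.Lib.Helper28 Cfsg.Agent.Lib.Helper28.TC Cfsg.Agent.Lib.Helper28.TC2 Cfsg.Agent.Lib.Helper28.ON122760

noncomputable section

theorem relP_blk256 : allRange (guard nn relP) 8 (256 * 2 ^ 8) = true := by decide +kernel
theorem relP_blk257 : allRange (guard nn relP) 8 (257 * 2 ^ 8) = true := by decide +kernel
theorem relP_blk258 : allRange (guard nn relP) 8 (258 * 2 ^ 8) = true := by decide +kernel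
theorem relP_blk259 : allRange (guard nn relP) 8 (259 * 2 ^ 8) = true := by decide +kernel
theorem relP_blk260 : allRange (guard nn relP) 8 (260 * 2 ^ 8) = true := by decide +kernel
theorem relP_blk261 : allRange (guard nn relP) 8 (261 * 2 ^ 8) = true := by decide +kernel
theorem relP_blk262 : allRange (guard nn relP) 8 (262 * 2 ^ 8) = true := by decide +kernel
theorem relP_blk263 : allRange (guard nn relP) 8 (263 * 2 ^ 8) = true := by decide +kernel
theorem relP_blk264 : allRange (guard nn relP) 8 (264 * 2 ^ 8) = true := by decide +kernel
theorem relP_blk265 : allRange (guard nn relP) 8 (265 * 2 ^ 8) = true := by decide +kernel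
theorem relP_blk266 : allRange (guard nn relP) 8 (266 * 2 ^ 8) = true := by decide +kernel
theorem relP_blk267 : allRange (guard nn relP) 8 (267 * 2 ^ 8) = true := by decide +kernel
theorem relP_blk268 : allRange (guard nn relP) 8 (268 * 2 ^ 8) = true := by decide +kernel
theorem relP_blk269 : allRange (guard nn relP) 8 (269 * 2 ^ 8) = true := by decide +kernel
theorem relP_blk270 : allRange (guard nn relP) 8 (270 * 2 ^ 8) = true := by decide +kernel
theorem relP_blk271 : allRange (guard nn relP) 8 (271 * 2 ^ 8) = true := by decide +kernel
theorem relP_f16 : ∀ k, 256 ≤ k → k < 272 → allRange (guard nn relP) 8 (k * 2 ^ 8) = true := by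
  intro k h1 h2
  interval_cases k
  · exact relP_blk256
  · exact relP_blk257
  · exact relP_blk258
  · exact relP_blk259
  · exact relP_blk260
  · exact relP_blk261
  · exact relP_blk262
  · exact relP_blk263
  · exact relP_blk264
  · exact relP_blk265
  · exact relP_blk266
  · exact relP_blk267
  · exact relP_blk268
  · exact relP_blk269
  · exact relP_blk270
  · exact relP_blk271

end

end Cfsg.Agent.Lib.Helper56.ONM11
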