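import Cfsg.Agent.Lib.Helper56.ONM11.Data

set_option autoImplicit false
set_option linter.unusedVariables false
set_option Elab.async false

namespace Cfsg.Agent.Lib.Helper56.ONM11

open Cfsg.Spor.ON (Gen)
open Cfsg.Agent.Lib.Helper28 Cfsg.Agent.Lib.Helper28.TC Cfsg.Agent.Lib.Helper28.TC2 Cfsg.Agent.Lib.Helper28.ON122760

noncomputable section

theorem relP_blk272 : allRange (guard nn relP) 8 (272 * 2 ^ 8) = true := by decide +kernel
theorem relP_blk273 : allRange (guard nn relP) 8 (273 * 2 ^ 8) = true := by decide +kernel
theorem relP_blk274 : allRange (guard nn relP) 8 (274 * 2 ^ 8) = true := by decide +kernel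
theorem relP_blk275 : allRange (guard nn relP) 8 (275 * 2 ^ 8) = true := by decide +kernel
theorem relP_blk276 : allRange (guard nn relP) 8 (276 * 2 ^ 8) = true := by decide +kernel
theorem relP_blk277 : allRange (guard nn relP) 8 (277 * 2 ^ 8) = true := by decide +kernel
theorem relP_blk278 : allRange (guard nn relP) 8 (278 * 2 ^ 8) = true := by decide +kernel
theorem relP_blk279 : allRange (guard nn relP) 8 (279 * 2 ^ 8) = true := by decide +kernel
theorem relP_blk280 : allRange (guard nn relP) 8 (280 * 2 ^ 8) = true := by decide +kernel
theorem relP_blk281 : allRange (guard nn relP) 8 (281 * 2 ^ 8) = true := by decide +kernel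
theorem relP_blk282 : allRange (guard nn relP) 8 (282 * 2 ^ 8) = true := by decide +kernel
theorem relP_blk283 : allRange (guard nn relP) 8 (283 * 2 ^ 8) = true := by decide +kernel
theorem relP_blk284 : allRange (guard nn relP) 8 (284 * 2 ^ 8) = true := by decide +kernel
theorem relP_blk285 : allRange (guard nn relP) 8 (285 * 2 ^ 8) = true := by decide +kernel
theorem relP_blk286 : allRange (guard nn relP) 8 (286 * 2 ^ 8) = true := by decide +kernel
theorem relP_blk287 : allRange (guard nn relP) 8 (287 * 2 ^ 8) = true := by decide +kernel
theorem relP_f17 : ∀ k, 272 ≤ k → k < 288 → allRange (guard nn relP) 8 (k * 2 ^ 8) = true := by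
  intro k h1 h2
  interval_cases k
  · exact relP_blk272
  · exact relP_blk273
  · exact relP_blk274
  · exact relP_blk275
  · exact relP_blk276
  · exact relP_blk277
  · exact relP_blk278
  · exact relP_blk279
  · exact relP_blk280
  · exact relP_blk281
  · exact relP_blk282
  · exact relP_blk283
  · exact relP_blk284
  · exact relP_blk285
  · exact relP_blk286
  · exact relP_blk287

end

end Cfsg.Agent.Lib.Helper56.ONM11
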