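import Cfsg.Agent.Lib.Helper56.ONM11.Data

set_option autoImplicit false
set_option linter.unusedVariables false
set_option Elab.async false

namespace Cfsg.Agent.Lib.Helper56.ONM11

open Cfsg.Spor.ON (Gen)
open Cfsg.Agent.Lib.Helper28 Cfsg.Agent.Lib.Helper28.TC Cfsg.Agent.Lib.Helper28.TC2 Cfsg.Agent.Lib.Helper28.ON122760

noncomputable section

theorem relP_blk304 : allRange (guard nn relP) 8 (304 * 2 ^ 8) = true := by decide +kernel
theorem relP_blk305 : allRange (guard nn relP) 8 (305 * 2 ^ 8) = true := by decide +kernel
theorem relP_blk306 : allRange (guard nn relP) 8 (306 * 2 ^ 8) = true := by decide +kernel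
theorem relP_blk307 : allRange (guard nn relP) 8 (307 * 2 ^ 8) = true := by decide +kernel
theorem relP_blk308 : allRange (guard nn relP) 8 (308 * 2 ^ 8) = true := by decide +kernel
theorem relP_blk309 : allRange (guard nn relP) 8 (309 * 2 ^ 8) = true := by decide +kernel
theorem relP_blk310 : allRange (guard nn relP) 8 (310 * 2 ^ 8) = true := by decide +kernel
theorem relP_blk311 : allRange (guard nn relP) 8 (311 * 2 ^ 8) = true := by decide +kernel
theorem relP_blk312 : allRange (guard nn relP) 8 (312 * 2 ^ 8) = true := by decide +kernel
theorem relP_blk313 : allRange (guard nn relP) 8 (313 * 2 ^ 8) = true := by decide +kernel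
theorem relP_blk314 : allRange (guard nn relP) 8 (314 * 2 ^ 8) = true := by decide +kernel
theorem relP_blk315 : allRange (guard nn relP) 8 (315 * 2 ^ 8) = true := by decide +kernel
theorem relP_blk316 : allRange (guard nn relP) 8 (316 * 2 ^ 8) = true := by decide +kernel
theorem relP_blk317 : allRange (guard nn relP) 8 (317 * 2 ^ 8) = true := by decide +kernel
theorem relP_blk318 : allRange (guard nn relP) 8 (318 * 2 ^ 8) = true := by decide +kernel
theorem relP_blk319 : allRange (guard nn relP) 8 (319 * 2 ^ 8) = true := by decide +kernel
theorem relP_f19 : ∀ k, 304 ≤ k → k < 320 → allRange (guard nn relP) 8 (k * 2 ^ 8) = true := by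
  intro k h1 h2
  interval_cases k
  · exact relP_blk304
  · exact relP_blk305
  · exact relP_blk306
  · exact relP_blk307
  · exact relP_blk308
  · exact relP_blk309
  · exact relP_blk310
  · exact relP_blk311
  · exact relP_blk312
  · exact relP_blk313
  · exact relP_blk314
  · exact relP_blk315
  · exact relP_blk316
  · exact relP_blk317
  · exact relP_blk318
  · exact relP_blk319

end

end Cfsg.Agent.Lib.Helper56.ONM11
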