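import Cfsg.Agent.Lib.Helper56.ONM11.Data

set_option autoImplicit false
set_option linter.unusedVariables false
set_option Elab.async false

namespace Cfsg.Agent.Lib.Helper56.ONM11

open Cfsg.Spor.ON (Gen)
open Cfsg.Agent.Lib.Helper28 Cfsg.Agent.Lib.Helper28.TC Cfsg.Agent.Lib.Helper28.TC2 Cfsg.Agent.Lib.Helper28.ON122760

noncomputable section

theorem relP_blk336 : allRange (guard nn relP) 8 (336 * 2 ^ 8) = true := by decide +kernel
theorem relP_blk337 : allRange (guard nn relP) 8 (337 * 2 ^ 8) = true := by decide +kernel
theorem relP_blk338 : allRange (guard nn relP) 8 (338 * 2 ^ 8) = true := by decide +kernel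
theorem relP_blk339 : allRange (guard nn relP) 8 (339 * 2 ^ 8) = true := by decide +kernel
theorem relP_blk340 : allRange (guard nn relP) 8 (340 * 2 ^ 8) = true := by decide +kernel
theorem relP_blk341 : allRange (guard nn relP) 8 (341 * 2 ^ 8) = true := by decide +kernel
theorem relP_blk342 : allRange (guard nn relP) 8 (342 * 2 ^ 8) = true := by decide +kernel
theorem relP_blk343 : allRange (guard nn relP) 8 (343 * 2 ^ 8) = true := by decide +kernel
theorem relP_blk344 : allRange (guard nn relP) 8 (344 * 2 ^ 8) = true := by decide +kernel
theorem relP_blk345 : allRange (guard nn relP) 8 (345 * 2 ^ 8) = true := by decide +kernel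
theorem relP_blk346 : allRange (guard nn relP) 8 (346 * 2 ^ 8) = true := by decide +kernel
theorem relP_blk347 : allRange (guard nn relP) 8 (347 * 2 ^ 8) = true := by decide +kernel
theorem relP_blk348 : allRange (guard nn relP) 8 (348 * 2 ^ 8) = true := by decide +kernel
theorem relP_blk349 : allRange (guard nn relP) 8 (349 * 2 ^ 8) = true := by decide +kernel
theorem relP_blk350 : allRange (guard nn relP) 8 (350 * 2 ^ 8) = true := by decide +kernel
theorem relP_blk351 : allRange (guard nn relP) 8 (351 * 2 ^ 8) = true := by decide +kernel
theorem relP_f21 : ∀ k, 336 ≤ k → k < 352 → allRange (guard nn relP) 8 (k * 2 ^ 8) = true := by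
  intro k h1 h2
  interval_cases k
  · exact relP_blk336
  · exact relP_blk337
  · exact relP_blk338
  · exact relP_blk339
  · exact relP_blk340
  · exact relP_blk341
  · exact relP_blk342
  · exact relP_blk343
  · exact relP_blk344
  · exact relP_blk345
  · exact relP_blk346
  · exact relP_blk347
  · exact relP_blk348
  · exact relP_blk349
  · exact relP_blk350
  · exact relP_blk351

end

end Cfsg.Agent.Lib.Helper56.ONM11
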