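import Cfsg.Agent.Lib.Helper56.ONM11.Data

set_option autoImplicit false
set_option linter.unusedVariables false
set_option Elab.async false

namespace Cfsg.Agent.Lib.Helper56.ONM11

open Cfsg.Spor.ON (Gen)
open Cfsg.Agent.Lib.Helper28 Cfsg.Agent.Lib.Helper28.TC Cfsg.Agent.Lib.Helper28.TC2 Cfsg.Agent.Lib.Helper28.ON122760

noncomputable section

theorem relP_blk352 : allRange (guard nn relP) 8 (352 * 2 ^ 8) = true := by decide +kernel
theorem relP_blk353 : allRange (guard nn relP) 8 (353 * 2 ^ 8) = true := by decide +kernel
theorem relP_blk354 : allRange (guard nn relP) 8 (354 * 2 ^ 8) = true := by decide +kernel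
theorem relP_blk355 : allRange (guard nn relP) 8 (355 * 2 ^ 8) = true := by decide +kernel
theorem relP_blk356 : allRange (guard nn relP) 8 (356 * 2 ^ 8) = true := by decide +kernel
theorem relP_blk357 : allRange (guard nn relP) 8 (357 * 2 ^ 8) = true := by decide +kernel
theorem relP_blk358 : allRange (guard nn relP) 8 (358 * 2 ^ 8) = true := by decide +kernel
theorem relP_blk359 : allRange (guard nn relP) 8 (359 * 2 ^ 8) = true := by decide +kernel
theorem relP_blk360 : allRange (guard nn relP) 8 (360 * 2 ^ 8) = true := by decide +kernel
theorem relP_blk361 : allRange (guard nn relP) 8 (361 * 2 ^ 8) = true := by decide +kernel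
theorem relP_blk362 : allRange (guard nn relP) 8 (362 * 2 ^ 8) = true := by decide +kernel
theorem relP_blk363 : allRange (guard nn relP) 8 (363 * 2 ^ 8) = true := by decide +kernel
theorem relP_blk364 : allRange (guard nn relP) 8 (364 * 2 ^ 8) = true := by decide +kernel
theorem relP_blk365 : allRange (guard nn relP) 8 (365 * 2 ^ 8) = true := by decide +kernel
theorem relP_blk366 : allRange (guard nn relP) 8 (366 * 2 ^ 8) = true := by decide +kernel
theorem relP_blk367 : allRange (guard nn relP) 8 (367 * 2 ^ 8) = true := by decide +kernel
theorem relP_f22 : ∀ k, 352 ≤ k → k < 368 → allRange (guard nn relP) 8 (k * 2 ^ 8) = true := by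
  intro k h1 h2
  interval_cases k
  · exact relP_blk352
  · exact relP_blk353
  · exact relP_blk354
  · exact relP_blk355
  · exact relP_blk356
  · exact relP_blk357
  · exact relP_blk358
  · exact relP_blk359
  · exact relP_blk360
  · exact relP_blk361
  · exact relP_blk362
  · exact relP_blk363
  · exact relP_blk364
  · exact relP_blk365
  · exact relP_blk366
  · exact relP_blk367

end

end Cfsg.Agent.Lib.Helper56.ONM11
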