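import Cfsg.Agent.Lib.Helper56.ONM11.Data

set_option autoImplicit false
set_option linter.unusedVariables false
set_option Elab.async false

namespace Cfsg.Agent.Lib.Helper56.ONM11

open Cfsg.Spor.ON (Gen)
open Cfsg.Agent.Lib.Helper28 Cfsg.Agent.Lib.Helper28.TC Cfsg.Agent.Lib.Helper28.TC2 Cfsg.Agent.Lib.Helper28.ON122760

noncomputable section

theorem relP_blk432 : allRange (guard nn relP) 8 (432 * 2 ^ 8) = true := by decide +kernel
theorem relP_blk433 : allRange (guard nn relP) 8 (433 * 2 ^ 8) = true := by decide +kernel
theorem relP_blk434 : allRange (guard nn relP) 8 (434 * 2 ^ 8) = true := by decide +kernel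
theorem relP_blk435 : allRange (guard nn relP) 8 (435 * 2 ^ 8) = true := by decide +kernel
theorem relP_blk436 : allRange (guard nn relP) 8 (436 * 2 ^ 8) = true := by decide +kernel
theorem relP_blk437 : allRange (guard nn relP) 8 (437 * 2 ^ 8) = true := by decide +kernel
theorem relP_blk438 : allRange (guard nn relP) 8 (438 * 2 ^ 8) = true := by decide +kernel
theorem relP_blk439 : allRange (guard nn relP) 8 (439 * 2 ^ 8) = true := by decide +kernel
theorem relP_blk440 : allRange (guard nn relP) 8 (440 * 2 ^ 8) = true := by decide +kernel
theorem relP_blk441 : allRange (guard nn relP) 8 (441 * 2 ^ 8) = true := by decide +kernel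
theorem relP_blk442 : allRange (guard nn relP) 8 (442 * 2 ^ 8) = true := by decide +kernel
theorem relP_blk443 : allRange (guard nn relP) 8 (443 * 2 ^ 8) = true := by decide +kernel
theorem relP_blk444 : allRange (guard nn relP) 8 (444 * 2 ^ 8) = true := by decide +kernel
theorem relP_blk445 : allRange (guard nn relP) 8 (445 * 2 ^ 8) = true := by decide +kernel
theorem relP_blk446 : allRange (guard nn relP) 8 (446 * 2 ^ 8) = true := by decide +kernel
theorem relP_blk447 : allRange (guard nn relP) 8 (447 * 2 ^ 8) = true := by decide +kernel
theorem relP_f27 : ∀ k, 432 ≤ k → k < 448 → allRange (guard nn relP) 8 (k * 2 ^ 8) = true := by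
  intro k h1 h2
  interval_cases k
  · exact relP_blk432
  · exact relP_blk433
  · exact relP_blk434
  · exact relP_blk435
  · exact relP_blk436
  · exact relP_blk437
  · exact relP_blk438
  · exact relP_blk439
  · exact relP_blk440
  · exact relP_blk441
  · exact relP_blk442
  · exact relP_blk443
  · exact relP_blk444
  · exact relP_blk445
  · exact relP_blk446
  · exact relP_blk447

end

end Cfsg.Agent.Lib.Helper56.ONM11
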