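import Cfsg.Agent.Lib.Helper56.ONM11.Data

set_option autoImplicit false
set_option linter.unusedVariables false
set_option Elab.async false

namespace Cfsg.Agent.Lib.Helper56.ONM11

open Cfsg.Spor.ON (Gen)
open Cfsg.Agent.Lib.Helper28 Cfsg.Agent.Lib.Helper28.TC Cfsg.Agent.Lib.Helper28.TC2 Cfsg.Agent.Lib.Helper28.ON122760

noncomputable section

theorem relP_blk448 : allRange (guard nn relP) 8 (448 * 2 ^ 8) = true := by decide +kernel
theorem relP_blk449 : allRange (guard nn relP) 8 (449 * 2 ^ 8) = true := by decide +kernel
theorem relP_blk450 : allRange (guard nn relP) 8 (450 * 2 ^ 8) = true := by decide +kernel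
theorem relP_blk451 : allRange (guard nn relP) 8 (451 * 2 ^ 8) = true := by decide +kernel
theorem relP_blk452 : allRange (guard nn relP) 8 (452 * 2 ^ 8) = true := by decide +kernel
theorem relP_blk453 : allRange (guard nn relP) 8 (453 * 2 ^ 8) = true := by decide +kernel
theorem relP_blk454 : allRange (guard nn relP) 8 (454 * 2 ^ 8) = true := by decide +kernel
theorem relP_blk455 : allRange (guard nn relP) 8 (455 * 2 ^ 8) = true := by decide +kernel
theorem relP_blk456 : allRange (guard nn relP) 8 (456 * 2 ^ 8) = true := by decide +kernel
theorem relP_blk457 : allRange (guard nn relP) 8 (457 * 2 ^ 8) = true := by decide +kernel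
theorem relP_blk458 : allRange (guard nn relP) 8 (458 * 2 ^ 8) = true := by decide +kernel
theorem relP_blk459 : allRange (guard nn relP) 8 (459 * 2 ^ 8) = true := by decide +kernel
theorem relP_blk460 : allRange (guard nn relP) 8 (460 * 2 ^ 8) = true := by decide +kernel
theorem relP_blk461 : allRange (guard nn relP) 8 (461 * 2 ^ 8) = true := by decide +kernel
theorem relP_blk462 : allRange (guard nn relP) 8 (462 * 2 ^ 8) = true := by decide +kernel
theorem relP_blk463 : allRange (guard nn relP) 8 (463 * 2 ^ 8) = true := by decide +kernel
theorem relP_f28 : ∀ k, 448 ≤ k → k < 464 → allRange (guard nn relP) 8 (k * 2 ^ 8) = true := by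
  intro k h1 h2
  interval_cases k
  · exact relP_blk448
  · exact relP_blk449
  · exact relP_blk450
  · exact relP_blk451
  · exact relP_blk452
  · exact relP_blk453
  · exact relP_blk454
  · exact relP_blk455
  · exact relP_blk456
  · exact relP_blk457
  · exact relP_blk458
  · exact relP_blk459
  · exact relP_blk460
  · exact relP_blk461
  · exact relP_blk462
  · exact relP_blk463

end

end Cfsg.Agent.Lib.Helper56.ONM11
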