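import Cfsg.Agent.Lib.Helper56.ONM11.Data

set_option autoImplicit false
set_option linter.unusedVariables false
set_option Elab.async false

namespace Cfsg.Agent.Lib.Helper56.ONM11

open Cfsg.Spor.ON (Gen)
open Cfsg.Agent.Lib.Helper28 Cfsg.Agent.Lib.Helper28.TC Cfsg.Agent.Lib.Helper28.TC2 Cfsg.Agent.Lib.Helper28.ON122760

noncomputable section

theorem relP_blk48 : allRange (guard nn relP) 8 (48 * 2 ^ 8) = true := by decide +kernel
theorem relP_blk49 : allRange (guard nn relP) 8 (49 * 2 ^ 8) = true := by decide +kernel
theorem relP_blk50 : allRange (guard nn relP) 8 (50 * 2 ^ 8) = true := by decide +kernel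
theorem relP_blk51 : allRange (guard nn relP) 8 (51 * 2 ^ 8) = true := by decide +kernel
theorem relP_blk52 : allRange (guard nn relP) 8 (52 * 2 ^ 8) = true := by decide +kernel
theorem relP_blk53 : allRange (guard nn relP) 8 (53 * 2 ^ 8) = true := by decide +kernel
theorem relP_blk54 : allRange (guard nn relP) 8 (54 * 2 ^ 8) = true := by decide +kernel
theorem relP_blk55 : allRange (guard nn relP) 8 (55 * 2 ^ 8) = true := by decide +kernel
theorem relP_blk56 : allRange (guard nn relP) 8 (56 * 2 ^ 8) = true := by decide +kernel
theorem relP_blk57 : allRange (guard nn relP) 8 (57 * 2 ^ 8) = true := by decide +kernel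
theorem relP_blk58 : allRange (guard nn relP) 8 (58 * 2 ^ 8) = true := by decide +kernel
theorem relP_blk59 : allRange (guard nn relP) 8 (59 * 2 ^ 8) = true := by decide +kernel
theorem relP_blk60 : allRange (guard nn relP) 8 (60 * 2 ^ 8) = true := by decide +kernel
theorem relP_blk61 : allRange (guard nn relP) 8 (61 * 2 ^ 8) = true := by decide +kernel
theorem relP_blk62 : allRange (guard nn relP) 8 (62 * 2 ^ 8) = true := by decide +kernel
theorem relP_blk63 : allRange (guard nn relP) 8 (63 * 2 ^ 8) = true := by decide +kernel
theorem relP_f3 : ∀ k, 48 ≤ k → k < 64 → allRange (guard nn relP) 8 (k * 2 ^ 8) = true := by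
  intro k h1 h2
  interval_cases k
  · exact relP_blk48
  · exact relP_blk49
  · exact relP_blk50
  · exact relP_blk51
  · exact relP_blk52
  · exact relP_blk53
  · exact relP_blk54
  · exact relP_blk55
  · exact relP_blk56
  · exact relP_blk57
  · exact relP_blk58
  · exact relP_blk59
  · exact relP_blk60
  · exact relP_blk61
  · exact relP_blk62
  · exact relP_blk63

end

end Cfsg.Agent.Lib.Helper56.ONM11
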