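import Cfsg.Agent.Lib.Helper56.ONM11.Data

set_option autoImplicit false
set_option linter.unusedVariables false
set_option Elab.async false

namespace Cfsg.Agent.Lib.Helper56.ONM11

open Cfsg.Spor.ON (Gen)
open Cfsg.Agent.Lib.Helper28 Cfsg.Agent.Lib.Helper28.TC Cfsg.Agent.Lib.Helper28.TC2 Cfsg.Agent.Lib.Helper28.ON122760

noncomputable section

theorem relP_blk80 : allRange (guard nn relP) 8 (80 * 2 ^ 8) = true := by decide +kernel
theorem relP_blk81 : allRange (guard nn relP) 8 (81 * 2 ^ 8) = true := by decide +kernel
theorem relP_blk82 : allRange (guard nn relP) 8 (82 * 2 ^ 8) = true := by decide +kernel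
theorem relP_blk83 : allRange (guard nn relP) 8 (83 * 2 ^ 8) = true := by decide +kernel
theorem relP_blk84 : allRange (guard nn relP) 8 (84 * 2 ^ 8) = true := by decide +kernel
theorem relP_blk85 : allRange (guard nn relP) 8 (85 * 2 ^ 8) = true := by decide +kernel
theorem relP_blk86 : allRange (guard nn relP) 8 (86 * 2 ^ 8) = true := by decide +kernel
theorem relP_blk87 : allRange (guard nn relP) 8 (87 * 2 ^ 8) = true := by decide +kernel
theorem relP_blk88 : allRange (guard nn relP) 8 (88 * 2 ^ 8) = true := by decide +kernel
theorem relP_blk89 : allRange (guard nn relP) 8 (89 * 2 ^ 8) = true := by decide +kernel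
theorem relP_blk90 : allRange (guard nn relP) 8 (90 * 2 ^ 8) = true := by decide +kernel
theorem relP_blk91 : allRange (guard nn relP) 8 (91 * 2 ^ 8) = true := by decide +kernel
theorem relP_blk92 : allRange (guard nn relP) 8 (92 * 2 ^ 8) = true := by decide +kernel
theorem relP_blk93 : allRange (guard nn relP) 8 (93 * 2 ^ 8) = true := by decide +kernel
theorem relP_blk94 : allRange (guard nn relP) 8 (94 * 2 ^ 8) = true := by decide +kernel
theorem relP_blk95 : allRange (guard nn relP) 8 (95 * 2 ^ 8) = true := by decide +kernel
theorem relP_f5 : ∀ k, 80 ≤ k → k < 96 → allRange (guard nn relP) 8 (k * 2 ^ 8) = true := by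
  intro k h1 h2
  interval_cases k
  · exact relP_blk80
  · exact relP_blk81
  · exact relP_blk82
  · exact relP_blk83
  · exact relP_blk84
  · exact relP_blk85
  · exact relP_blk86
  · exact relP_blk87
  · exact relP_blk88
  · exact relP_blk89
  · exact relP_blk90
  · exact relP_blk91
  · exact relP_blk92
  · exact relP_blk93
  · exact relP_blk94
  · exact relP_blk95

end

end Cfsg.Agent.Lib.Helper56.ONM11
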