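import Cfsg.Agent.Lib.Helper56.ONM11.Data

set_option autoImplicit false
set_option linter.unusedVariables false
set_option Elab.async false

namespace Cfsg.Agent.Lib.Helper56.ONM11

open Cfsg.Spor.ON (Gen)
open Cfsg.Agent.Lib.Helper28 Cfsg.Agent.Lib.Helper28.TC Cfsg.Agent.Lib.Helper28.TC2 Cfsg.Agent.Lib.Helper28.ON122760

noncomputable section

theorem relP_blk112 : allRange (guard nn relP) 8 (112 * 2 ^ 8) = true := by decide +kernel
theorem relP_blk113 : allRange (guard nn relP) 8 (113 * 2 ^ 8) = true := by decide +kernel
theorem relP_blk114 : allRange (guard nn relP) 8 (114 * 2 ^ 8) = true := by decide +kernel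
theorem relP_blk115 : allRange (guard nn relP) 8 (115 * 2 ^ 8) = true := by decide +kernel
theorem relP_blk116 : allRange (guard nn relP) 8 (116 * 2 ^ 8) = true := by decide +kernel
theorem relP_blk117 : allRange (guard nn relP) 8 (117 * 2 ^ 8) = true := by decide +kernel
theorem relP_blk118 : allRange (guard nn relP) 8 (118 * 2 ^ 8) = true := by decide +kernel
theorem relP_blk119 : allRange (guard nn relP) 8 (119 * 2 ^ 8) = true := by decide +kernel
theorem relP_blk120 : allRange (guard nn relP) 8 (120 * 2 ^ 8) = true := by decide +kernel
theorem relP_blk121 : allRange (guard nn relP) 8 (121 * 2 ^ 8) = true := by decide +kernel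
theorem relP_blk122 : allRange (guard nn relP) 8 (122 * 2 ^ 8) = true := by decide +kernel
theorem relP_blk123 : allRange (guard nn relP) 8 (123 * 2 ^ 8) = true := by decide +kernel
theorem relP_blk124 : allRange (guard nn relP) 8 (124 * 2 ^ 8) = true := by decide +kernel
theorem relP_blk125 : allRange (guard nn relP) 8 (125 * 2 ^ 8) = true := by decide +kernel
theorem relP_blk126 : allRange (guard nn relP) 8 (126 * 2 ^ 8) = true := by decide +kernel
theorem relP_blk127 : allRange (guard nn relP) 8 (127 * 2 ^ 8) = true := by decide +kernel
theorem relP_f7 : ∀ k, 112 ≤ k → k < 128 → allRange (guard nn relP) 8 (k * 2 ^ 8) = true := by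
  intro k h1 h2
  interval_cases k
  · exact relP_blk112
  · exact relP_blk113
  · exact relP_blk114
  · exact relP_blk115
  · exact relP_blk116
  · exact relP_blk117
  · exact relP_blk118
  · exact relP_blk119
  · exact relP_blk120
  · exact relP_blk121
  · exact relP_blk122
  · exact relP_blk123
  · exact relP_blk124
  · exact relP_blk125
  · exact relP_blk126
  · exact relP_blk127

end

end Cfsg.Agent.Lib.Helper56.ONM11
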