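import Cfsg.Agent.Lib.Helper56.ONM11.Data

set_option autoImplicit false
set_option linter.unusedVariables false
set_option Elab.async false

namespace Cfsg.Agent.Lib.Helper56.ONM11

open Cfsg.Spor.ON (Gen)
open Cfsg.Agent.Lib.Helper28 Cfsg.Agent.Lib.Helper28.TC Cfsg.Agent.Lib.Helper28.TC2 Cfsg.Agent.Lib.Helper28.ON122760

noncomputable section

theorem relP_blk128 : allRange (guard nn relP) 8 (128 * 2 ^ 8) = true := by decide +kernel
theorem relP_blk129 : allRange (guard nn relP) 8 (129 * 2 ^ 8) = true := by decide +kernel
theorem relP_blk130 : allRange (guard nn relP) 8 (130 * 2 ^ 8) = true := by decide +kernel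
theorem relP_blk131 : allRange (guard nn relP) 8 (131 * 2 ^ 8) = true := by decide +kernel
theorem relP_blk132 : allRange (guard nn relP) 8 (132 * 2 ^ 8) = true := by decide +kernel
theorem relP_blk133 : allRange (guard nn relP) 8 (133 * 2 ^ 8) = true := by decide +kernel
theorem relP_blk134 : allRange (guard nn relP) 8 (134 * 2 ^ 8) = true := by decide +kernel
theorem relP_blk135 : allRange (guard nn relP) 8 (135 * 2 ^ 8) = true := by decide +kernel
theorem relP_blk136 : allRange (guard nn relP) 8 (136 * 2 ^ 8) = true := by decide +kernel
theorem relP_blk137 : allRange (guard nn relP) 8 (137 * 2 ^ 8) = true := by decide +kernel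
theorem relP_blk138 : allRange (guard nn relP) 8 (138 * 2 ^ 8) = true := by decide +kernel
theorem relP_blk139 : allRange (guard nn relP) 8 (139 * 2 ^ 8) = true := by decide +kernel
theorem relP_blk140 : allRange (guard nn relP) 8 (140 * 2 ^ 8) = true := by decide +kernel
theorem relP_blk141 : allRange (guard nn relP) 8 (141 * 2 ^ 8) = true := by decide +kernel
theorem relP_blk142 : allRange (guard nn relP) 8 (142 * 2 ^ 8) = true := by decide +kernel
theorem relP_blk143 : allRange (guard nn relP) 8 (143 * 2 ^ 8) = true := by decide +kernel
theorem relP_f8 : ∀ k, 128 ≤ k → k < 144 → allRange (guard nn relP) 8 (k * 2 ^ 8) = true := by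
  intro k h1 h2
  interval_cases k
  · exact relP_blk128
  · exact relP_blk129
  · exact relP_blk130
  · exact relP_blk131
  · exact relP_blk132
  · exact relP_blk133
  · exact relP_blk134
  · exact relP_blk135
  · exact relP_blk136
  · exact relP_blk137
  · exact relP_blk138
  · exact relP_blk139
  · exact relP_blk140
  · exact relP_blk141
  · exact relP_blk142
  · exact relP_blk143

end

end Cfsg.Agent.Lib.Helper56.ONM11
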