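import Cfsg.Agent.Lib.Helper56.ONM11.Data

set_option autoImplicit false
set_option linter.unusedVariables false
set_option Elab.async false

namespace Cfsg.Agent.Lib.Helper56.ONM11

open Cfsg.Spor.ON (Gen)
open Cfsg.Agent.Lib.Helper28 Cfsg.Agent.Lib.Helper28.TC Cfsg.Agent.Lib.Helper28.TC2 Cfsg.Agent.Lib.Helper28.ON122760

noncomputable section

theorem relP_blk144 : allRange (guard nn relP) 8 (144 * 2 ^ 8) = true := by decide +kernel
theorem relP_blk145 : allRange (guard nn relP) 8 (145 * 2 ^ 8) = true := by decide +kernel
theorem relP_blk146 : allRange (guard nn relP) 8 (146 * 2 ^ 8) = true := by decide +kernel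
theorem relP_blk147 : allRange (guard nn relP) 8 (147 * 2 ^ 8) = true := by decide +kernel
theorem relP_blk148 : allRange (guard nn relP) 8 (148 * 2 ^ 8) = true := by decide +kernel
theorem relP_blk149 : allRange (guard nn relP) 8 (149 * 2 ^ 8) = true := by decide +kernel
theorem relP_blk150 : allRange (guard nn relP) 8 (150 * 2 ^ 8) = true := by decide +kernel
theorem relP_blk151 : allRange (guard nn relP) 8 (151 * 2 ^ 8) = true := by decide +kernel
theorem relP_blk152 : allRange (guard nn relP) 8 (152 * 2 ^ 8) = true := by decide +kernel
theorem relP_blk153 : allRange (guard nn relP) 8 (153 * 2 ^ 8) = true := by decide +kernel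
theorem relP_blk154 : allRange (guard nn relP) 8 (154 * 2 ^ 8) = true := by decide +kernel
theorem relP_blk155 : allRange (guard nn relP) 8 (155 * 2 ^ 8) = true := by decide +kernel
theorem relP_blk156 : allRange (guard nn relP) 8 (156 * 2 ^ 8) = true := by decide +kernel
theorem relP_blk157 : allRange (guard nn relP) 8 (157 * 2 ^ 8) = true := by decide +kernel
theorem relP_blk158 : allRange (guard nn relP) 8 (158 * 2 ^ 8) = true := by decide +kernel
theorem relP_blk159 : allRange (guard nn relP) 8 (159 * 2 ^ 8) = true := by decide +kernel
theorem relP_f9 : ∀ k, 144 ≤ k → k < 160 → allRange (guard nn relP) 8 (k * 2 ^ 8) = true := by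
  intro k h1 h2
  interval_cases k
  · exact relP_blk144
  · exact relP_blk145
  · exact relP_blk146
  · exact relP_blk147
  · exact relP_blk148
  · exact relP_blk149
  · exact relP_blk150
  · exact relP_blk151
  · exact relP_blk152
  · exact relP_blk153
  · exact relP_blk154
  · exact relP_blk155
  · exact relP_blk156
  · exact relP_blk157
  · exact relP_blk158
  · exact relP_blk159

end

end Cfsg.Agent.Lib.Helper56.ONM11
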