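/-
The presented O'Nan group contains a copy of the presented group `M11Q` (the Mathieu group `M₁₁`,
simple of order 7920), by helper56.

With `p, q, r` the three involutions of `ONJ1`, `w = rqrp` and `t = q · q ^ (cecb)`, the involutions
`i = t`, `j = w⁻¹ t w`, `k = w q w⁻¹` satisfy the relators of the presentation `M11Q` (checked in
the faithful permutation representation on 122760 points, through tables of auxiliary elements in
four layers).
-/
import Cfsg.Agent.Lib.Helper56.ONM11.ChkAll
import Cfsg.Agent.Lib.Helper56.ONPerm.Main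
import Cfsg.Agent.Lib.Helper56.M11Perm.Main

set_option autoImplicit false

namespace Cfsg.Agent.Lib.Helper56.ONM11

open Cfsg.Agent.Lib.Helper28 Cfsg.Agent.Lib.Helper28.TC Cfsg.Agent.Lib.Helper28.TC2
open Cfsg.Agent.Lib.Helper28.ON122760 Cfsg.Agent.Lib.Helper56.PresHom
open Cfsg.Spor.ON (Gen)

/-- the presented O'Nan group -/
abbrev ONG : Type := PresentedGroup ON122760.rels

/-- the presented group `M11Q` -/
abbrev Q : Type := PresentedGroup M11Q.rels

/-- the words of the letters of layer 2 in the letters of the O'Nan group -/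
def w2 (x : A2) : List Ltr := (sub2 x).flatMap sub1

/-- the words of the letters of layer 3 in the letters of the O'Nan group -/
def w3 (x : A3) : List Ltr := (sub3 x).flatMap w2

/-- the words of the generators of `M11Q` in the letters of the O'Nan group -/
def sub (x : M11Q.Gen) : List Ltr := (sub4 x).flatMap w3

/-- the images of the generators of `M11Q` in the O'Nan group -/
noncomputable def valQ (x : M11Q.Gen) : ONG := wval ON122760.val (sub x)

theorem wval_valQ (w : List M11Q.Gen) :
    wval valQ w = wval ON122760.val (w.flatMap sub) := by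
  induction w with
  | nil => rfl
  | cons x w ih =>
    rw [wval_cons, ih, List.flatMap_cons, wval_append]
    rfl

theorem relP_spec (i : ℕ) (hi : i < nn) :
    (∀ a, tau1 a i = act tf (sub1 a) i) ∧ (∀ a, tau2 a i = act tau1 (sub2 a) i) ∧
      (∀ a, tau3 a i = act tau2 (sub3 a) i) ∧ (∀ x, tau4 x i = act tau3 (sub4 x) i) ∧
      ∀ w ∈ M11Q.relWords, act tau4 w i = i := by
  have h := relP_all i hi
  unfold relP at h
  rw [band_eq_true, band_eq_true, band_eq_true, band_eq_true] at h
  refine ⟨fun a => ?_, fun a => ?_, fun a => ?_, fun x => ?_,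
    fun w hw => relRowOK_spec tau4 M11Q.relWords i h.2.2.2.2 w hw⟩
  · exact nbeq_eq_true.1 (allList_spec _ _ h.1 a (mem_list1 a))
  · exact nbeq_eq_true.1 (allList_spec _ _ h.2.1 a (mem_list2 a))
  · exact nbeq_eq_true.1 (allList_spec _ _ h.2.2.1 a (mem_list3 a))
  · exact nbeq_eq_true.1 (allList_spec _ _ h.2.2.2.1 x (M11Q.mem_gens x))

theorem act_tau1 (w : List A1) : ∀ i, i < nn →
    act tau1 w i = act tf (w.flatMap sub1) i := by
  induction w with
  | nil => intro i _; rfl
  | cons x w ih =>
    intro i hi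
    have hlt : act tf (w.flatMap sub1) i < nn := T.act_lt _ i hi
    rw [act_cons, ih i hi, (relP_spec _ hlt).1 x, List.flatMap_cons, act_append]

theorem tau2_eq (x : A2) (i : ℕ) (hi : i < nn) : tau2 x i = act tf (w2 x) i := by
  rw [(relP_spec i hi).2.1 x, act_tau1 _ i hi]
  rfl

theorem act_tau2 (w : List A2) : ∀ i, i < nn →
    act tau2 w i = act tf (w.flatMap w2) i := by
  induction w with
  | nil => intro i _; rfl
  | cons x w ih =>
    intro i hi
    have hlt : act tf (w.flatMap w2) i < nn := T.act_lt _ i hi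
    rw [act_cons, ih i hi, tau2_eq x _ hlt, List.flatMap_cons, act_append]

theorem tau3_eq (x : A3) (i : ℕ) (hi : i < nn) : tau3 x i = act tf (w3 x) i := by
  rw [(relP_spec i hi).2.2.1 x, act_tau2 _ i hi]
  rfl

theorem act_tau3 (w : List A3) : ∀ i, i < nn →
    act tau3 w i = act tf (w.flatMap w3) i := by
  induction w with
  | nil => intro i _; rfl
  | cons x w ih =>
    intro i hi
    have hlt : act tf (w.flatMap w3) i < nn := T.act_lt _ i hi
    rw [act_cons, ih i hi, tau3_eq x _ hlt, List.flatMap_cons, act_append]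

theorem tau4_eq (x : M11Q.Gen) (i : ℕ) (hi : i < nn) : tau4 x i = act tf (sub x) i := by
  rw [(relP_spec i hi).2.2.2.1 x, act_tau3 _ i hi]
  rfl

theorem act_tau (w : List M11Q.Gen) : ∀ i, i < nn →
    act tau4 w i = act tf (w.flatMap sub) i := by
  induction w with
  | nil => intro i _; rfl
  | cons x w ih =>
    intro i hi
    have hlt : act tf (w.flatMap sub) i < nn := T.act_lt _ i hi
    rw [act_cons, ih i hi, tau4_eq x _ hlt, List.flatMap_cons, act_append]

theorem rel_act : ∀ w ∈ M11Q.relWords, ∀ i, i < nn → act tf (w.flatMap sub) i = i := by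
  intro w hw i hi
  rw [← act_tau w i hi]
  exact (relP_spec i hi).2.2.2.2 w hw

theorem rel_val : ∀ e ∈ M11Q.relE, wval valQ e.evalW = 1 := by
  intro e he
  rw [wval_valQ]
  exact ONPerm.wval_eq_one_of_act _ (rel_act _ (M11Q.relE_words e he))

theorem valQ_sq (x : M11Q.Gen) : valQ x * valQ x = 1 := by
  have h := rel_val (WE.mul (WE.of x) (WE.of x))
    (List.mem_append_left _ (List.mem_map_of_mem (M11Q.mem_gens x)))
  simpa [WE.evalW, wval] using h

theorem exists_φ : ∃ φ : Q →* ONG, ∀ x, φ (PresentedGroup.of x) = valQ x :=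
  exists_hom_to M11Q.relE valQ valQ_sq rel_val

/-- the point `1` is moved by the image of the generator `i` -/
theorem tau4_i_one : tau4 M11Q.Gen.i 1 ≠ 1 := by decide +kernel

theorem valQ_i_ne_one : valQ M11Q.Gen.i ≠ 1 := by
  intro h
  have h1 : ONPerm.π (valQ M11Q.Gen.i) = 1 := by rw [h, map_one]
  have h2 : ONPerm.wp (sub M11Q.Gen.i) = 1 := by
    rw [← ONPerm.π_wval]
    exact h1
  have h3 := ONPerm.wp_apply (sub M11Q.Gen.i) ⟨1, by decide⟩
  rw [h2] at h3
  have h4 : act tf (sub M11Q.Gen.i) 1 = 1 := h3.symm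
  rw [← tau4_eq M11Q.Gen.i 1 (by decide)] at h4
  exact tau4_i_one h4

end Cfsg.Agent.Lib.Helper56.ONM11
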